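import Mathlib

/-! A function on a finite abelian group with values in a finite field which no nontrivial automorphism
from a solvable group preserves off the identity. -/

set_option autoImplicit false
set_option linter.unusedSectionVars false

namespace Cfsg.Agent.H94.Base3

open Finset
open scoped commutatorElement

universe u

/-- An injective self map of a path preserving adjacency is a shift or a reflection. -/
theorem path_map {n : ℕ} (p : ℕ → ℕ) (hinj : ∀ i j, i < n → j < n → p i = p j → i = j)
    (hadj : ∀ i, i + 1 < n → p (i + 1) = p i + 1 ∨ p i = p (i + 1) + 1) :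
    (∀ i, i < n → p i = p 0 + i) ∨ (∀ i, i < n → p i + i = p 0) := by
  have key : ∀ i, i < n → (∀ k, k ≤ i → p k = p 0 + k) ∨ (∀ k, k ≤ i → p k + k = p 0) := by
    intro i
    induction i with
    | zero => exact fun _ => Or.inl fun k hk => by rw [Nat.le_zero.1 hk, add_zero]
    | succ i ih =>
      intro hi
      have ha := hadj i hi
      rcases Nat.eq_zero_or_pos i with rfl | hi0
      · rcases ha with h | h
        · refine Or.inl fun k hk => ?_
          rcases Nat.le_one_iff_eq_zero_or_eq_one.1 hk with rfl | rfl <;> simp_all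
        · refine Or.inr fun k hk => ?_
          rcases Nat.le_one_iff_eq_zero_or_eq_one.1 hk with rfl | rfl <;> simp_all
      have hne : p (i + 1) ≠ p (i - 1) := fun h => by
        have := hinj (i + 1) (i - 1) hi (by omega) h
        omega
      rcases ih (by omega) with h | h
      · refine Or.inl fun k hk => ?_
        rcases Nat.lt_or_ge k (i + 1) with hk' | hk'
        · exact h k (by omega)
        have h1 := h i le_rfl
        have h2 := h (i - 1) (by omega)
        rw [show k = i + 1 by omega]
        omega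
      · refine Or.inr fun k hk => ?_
        rcases Nat.lt_or_ge k (i + 1) with hk' | hk'
        · exact h k (by omega)
        have h1 := h i le_rfl
        have h2 := h (i - 1) (by omega)
        rw [show k = i + 1 by omega]
        omega
  by_cases hn : n = 0
  · exact Or.inl fun i hi => by omega
  rcases key (n - 1) (by omega) with h | h
  · exact Or.inl fun i hi => h i (by omega)
  · exact Or.inr fun i hi => h i (by omega)

/-- An independent generating family, seen through the supports. -/
structure Frame (B : Type u) [CommGroup B] (n : ℕ) where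
  e : Fin n → B
  supp : B → Finset (Fin n)
  supp_prod : ∀ s, supp (∏ i ∈ s, e i) = s
  gen : ∀ π : MulAut B, (∀ i, π (e i) = e i) → π = 1

theorem exists_frame (B : Type u) [CommGroup B] [Finite B] : ∃ n, Nonempty (Frame B n) := by
  classical
  obtain ⟨ι, hι, m, hm, ⟨f⟩⟩ := CommGroup.equiv_prod_multiplicative_zmod_of_finite B
  let q := Fintype.equivFin ι
  haveI : ∀ i, Fact (1 < m i) := fun i => ⟨hm i⟩
  let e : Fin (Fintype.card ι) → B := fun j =>
    f.symm (Pi.mulSingle (q.symm j) (Multiplicative.ofAdd (1 : ZMod (m (q.symm j)))))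
  refine ⟨Fintype.card ι, ⟨⟨e, fun b => univ.filter fun j => f b (q.symm j) ≠ 1, fun s => ?_, fun π hπ => ?_⟩⟩⟩
  · ext j
    rw [mem_filter, map_prod, Finset.prod_apply]
    simp only [mem_univ, true_and, e, MulEquiv.apply_symm_apply]
    by_cases hj : j ∈ s
    · simp only [hj, iff_true]
      rw [Finset.prod_eq_single_of_mem j hj fun k _ hk =>
        Pi.mulSingle_eq_of_ne (fun h => hk (q.symm.injective h).symm) _, Pi.mulSingle_eq_same]
      intro h
      exact one_ne_zero (Multiplicative.ofAdd.injective (h.trans ofAdd_zero.symm))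
    · simp only [hj, iff_false, not_not]
      exact Finset.prod_eq_one fun k hk =>
        Pi.mulSingle_eq_of_ne (fun h => by rw [q.symm.injective h] at hj; exact hj hk) _
  · have hh : ((f.toMonoidHom.comp π.toMonoidHom).comp f.symm.toMonoidHom) =
        MonoidHom.id ((i : ι) → Multiplicative (ZMod (m i))) := by
      refine MonoidHom.functions_ext _ _ _ fun i x => ?_
      obtain ⟨k, rfl⟩ : ∃ k : ℕ, x = Multiplicative.ofAdd (1 : ZMod (m i)) ^ k := by
        haveI : NeZero (m i) := ⟨by have := hm i; omega⟩
        refine ⟨(Multiplicative.toAdd x).val, Multiplicative.toAdd.injective ?_⟩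
        rw [toAdd_pow, toAdd_ofAdd, nsmul_one, ZMod.natCast_zmod_val]
      rw [Pi.mulSingle_pow, map_pow, map_pow]
      congr 1
      have := congrArg f (hπ (q i))
      simp only [e, MulEquiv.apply_symm_apply] at this
      rw [Equiv.symm_apply_apply] at this
      exact this
    refine MulEquiv.ext fun b => f.injective ?_
    simpa using DFunLike.congr_fun hh (f b)

variable {B : Type u} [CommGroup B] {n : ℕ} (F : Frame B n)

/-- The product of a set of frame elements. -/
def Frame.P (s : Finset (Fin n)) : B := ∏ i ∈ s, F.e i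

theorem Frame.P_inj {s t : Finset (Fin n)} (h : F.P s = F.P t) : s = t := by
  rw [← F.supp_prod s, ← F.supp_prod t]
  exact congrArg F.supp h

theorem Frame.P_single (i : Fin n) : F.P {i} = F.e i := Finset.prod_singleton _ _

theorem Frame.P_pair {i j : Fin n} (h : i ≠ j) : F.P {i, j} = F.e i * F.e j := Finset.prod_pair h

theorem Frame.P_ne_one {s : Finset (Fin n)} (h : s.Nonempty) : F.P s ≠ 1 := fun h' => by
  have : s = ∅ := F.P_inj (h'.trans Finset.prod_empty.symm)
  exact h.ne_empty this

theorem Frame.map_P (π : MulAut B) {p : Fin n → Fin n} (hp : ∀ i, π (F.e i) = F.e (p i))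
    (s : Finset (Fin n)) : π (F.P s) = F.P (s.image p) := by
  have hinj : Function.Injective p := fun i j h => by
    have : F.P {i} = F.P {j} := by
      rw [F.P_single, F.P_single]; exact π.injective (by rw [hp, hp, h])
    exact Finset.singleton_injective (F.P_inj this)
  rw [Frame.P, map_prod, Frame.P, Finset.prod_image hinj.injOn]
  exact Finset.prod_congr rfl fun i _ => hp i

/-- The common argument: singletons preserved and consecutive pairs preserved. -/
theorem Frame.eq_one_of_path (π : MulAut B) (hS : ∀ i, ∃ j, π (F.e i) = F.e j)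
    (hT : ∀ (i : Fin n) (h : i.1 + 1 < n), ∃ (j : Fin n) (h' : j.1 + 1 < n),
      π (F.P {i, ⟨i.1 + 1, h⟩}) = F.P {j, ⟨j.1 + 1, h'⟩})
    (hend : ∀ i j : Fin n, i.1 = 0 → π (F.e i) = F.e j → j.1 + 1 = n → n ≤ 1) :
    π = 1 := by
  choose p hp using hS
  have hinj : Function.Injective p := fun i j h => by
    have : F.P {i} = F.P {j} := by
      rw [F.P_single, F.P_single]; exact π.injective (by rw [hp, hp, h])
    exact Finset.singleton_injective (F.P_inj this)
  let p' : ℕ → ℕ := fun i => if h : i < n then (p ⟨i, h⟩).1 else i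
  have hp' : ∀ (i : ℕ) (h : i < n), p' i = (p ⟨i, h⟩).1 := fun i h => dif_pos h
  rcases path_map p' (n := n) (fun i j hi hj h => by
      rw [hp' i hi, hp' j hj] at h
      exact congrArg Fin.val (hinj (Fin.ext h)))
    (fun i hi => by
      obtain ⟨j, hj, he⟩ := hT ⟨i, by omega⟩ hi
      rw [F.map_P π hp, Finset.image_insert, Finset.image_singleton] at he
      have hs := F.P_inj he
      rw [hp' i (by omega), hp' (i + 1) hi]
      have hne : p ⟨i, by omega⟩ ≠ p ⟨i + 1, hi⟩ := fun h => by
        have := congrArg Fin.val (hinj h)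
        simp at this
      have h1 : p ⟨i, by omega⟩ = j ∨ p ⟨i, by omega⟩ = ⟨j.1 + 1, hj⟩ := by
        have := Finset.mem_insert_self (p ⟨i, by omega⟩) {p ⟨i + 1, hi⟩}
        rw [hs] at this
        simpa using this
      have h2 : p ⟨i + 1, hi⟩ = j ∨ p ⟨i + 1, hi⟩ = ⟨j.1 + 1, hj⟩ := by
        have := Finset.mem_insert_of_mem (Finset.mem_singleton_self (p ⟨i + 1, hi⟩))
          (b := p ⟨i, by omega⟩)
        rw [hs] at this
        simpa using this
      rcases h1 with h1 | h1 <;> rcases h2 with h2 | h2
      · exact absurd (h1.trans h2.symm) hne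
      · exact Or.inl (by rw [h1, h2])
      · exact Or.inr (by rw [h1, h2])
      · exact absurd (h1.trans h2.symm) hne) with h | h
  · refine F.gen π fun i => ?_
    have hn : 0 < n := lt_of_le_of_lt (Nat.zero_le _) i.2
    have hi := h i.1 i.2
    rw [hp' i.1 i.2] at hi
    have hend := h (n - 1) (by omega)
    rw [hp' (n - 1) (by omega)] at hend
    have hlt := (p ⟨n - 1, by omega⟩).2
    have h0 : p' 0 = 0 := by omega
    rw [hp, show p i = i from Fin.ext (by
      show (p i).1 = i.1
      have : (p ⟨i.1, i.2⟩).1 = (p i).1 := rfl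
      omega)]
  · refine F.gen π fun i => ?_
    have hn : 0 < n := by have := i.2; omega
    have hz := h (n - 1) (by omega)
    rw [hp' (n - 1) (by omega)] at hz
    have hv := hp' 0 hn
    have h0 := (p ⟨0, hn⟩).2
    have := hend ⟨0, hn⟩ _ rfl (hp _) (by omega)
    rw [hp, show p i = i from Fin.ext (by have := (p i).2; have := i.2; omega)]

include F in
theorem exists_colour_four (K : Type u) [Field K] (a : Fin 4 → K) (ha : Function.Injective a) :
    ∃ γ : B → K, ∀ π : MulAut B, (∀ b, b ≠ 1 → γ (π b) = γ b) → π = 1 := by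
  classical
  let A : B → Prop := fun b => ∃ i : Fin n, i.1 = 0 ∧ b = F.e i
  let S : B → Prop := fun b => ∃ i : Fin n, i.1 ≠ 0 ∧ b = F.e i
  let T : B → Prop := fun b => ∃ (i : Fin n) (h : i.1 + 1 < n), b = F.P {i, ⟨i.1 + 1, h⟩}
  let γ : B → K := fun b => if A b then a 0 else if S b then a 1 else if T b then a 2 else a 3
  refine ⟨γ, fun π hπ => ?_⟩
  have hAS : ∀ b, S b → ¬ A b := by
    rintro _ ⟨i, hi, rfl⟩ ⟨j, hj, h⟩
    rw [← F.P_single, ← F.P_single] at h
    exact hi (Finset.singleton_injective (F.P_inj h) ▸ hj)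
  have hT1 : ∀ b, T b → ¬ A b ∧ ¬ S b := by
    rintro _ ⟨i, h, rfl⟩
    constructor <;>
    · rintro ⟨j, -, hj⟩
      rw [← F.P_single] at hj
      have hc := congrArg Finset.card (F.P_inj hj)
      rw [Finset.card_pair (fun e => by have := congrArg Fin.val e; simp at this),
        Finset.card_singleton] at hc
      omega
  have gA : ∀ b, γ b = a 0 → A b := fun b h => by
    by_contra hA
    simp only [γ, hA, if_false] at h
    split_ifs at h <;> exact absurd (ha h) (by decide)
  have gS : ∀ b, γ b = a 1 → S b := fun b h => by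
    by_contra hS
    simp only [γ, hS, if_false] at h
    split_ifs at h <;> exact absurd (ha h) (by decide)
  have gT : ∀ b, γ b = a 2 → T b := fun b h => by
    by_contra hT
    simp only [γ, hT, if_false] at h
    split_ifs at h <;> exact absurd (ha h) (by decide)
  have hne : ∀ i, F.e i ≠ 1 := fun i => by
    rw [← F.P_single]; exact F.P_ne_one (Finset.singleton_nonempty i)
  refine F.eq_one_of_path π (fun i => ?_) (fun i h => ?_) (fun i j hi hj hjn => ?_)
  · by_cases hi : i.1 = 0
    · obtain ⟨j, -, hj⟩ := gA _ ((hπ _ (hne i)).trans (if_pos ⟨i, hi, rfl⟩))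
      exact ⟨j, hj⟩
    · have hS : S (F.e i) := ⟨i, hi, rfl⟩
      obtain ⟨j, -, hj⟩ := gS _ ((hπ _ (hne i)).trans (by simp only [γ, hAS _ hS, if_false, hS, if_true]))
      exact ⟨j, hj⟩
  · have hT : T (F.P {i, ⟨i.1 + 1, h⟩}) := ⟨i, h, rfl⟩
    exact gT _ ((hπ _ (F.P_ne_one (Finset.insert_nonempty _ _))).trans
      (by simp only [γ, (hT1 _ hT).1, (hT1 _ hT).2, if_false, hT, if_true]))
  · obtain ⟨k, hk, hk'⟩ := gA _ ((hπ _ (hne i)).trans (if_pos ⟨i, hi, rfl⟩))
    rw [hj, ← F.P_single, ← F.P_single] at hk'
    have := congrArg Fin.val (Finset.singleton_injective (F.P_inj hk'))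
    omega

include F in
theorem exists_colour_three (hn : 4 ≤ n) (K : Type u) [Field K] (a : Fin 3 → K)
    (ha : Function.Injective a) :
    ∃ γ : B → K, ∀ π : MulAut B, (∀ b, b ≠ 1 → γ (π b) = γ b) → π = 1 := by
  classical
  let tri : Finset (Fin n) := {⟨0, by omega⟩, ⟨1, by omega⟩, ⟨2, by omega⟩}
  have htri : tri.card = 3 := by
    simp [tri, Fin.ext_iff]
  let S : B → Prop := fun b => ∃ i : Fin n, b = F.e i
  let T : B → Prop := fun b => (∃ (i : Fin n) (h : i.1 + 1 < n), b = F.P {i, ⟨i.1 + 1, h⟩}) ∨ b = F.P tri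
  let γ : B → K := fun b => if S b then a 0 else if T b then a 1 else a 2
  refine ⟨γ, fun π hπ => ?_⟩
  have hTS : ∀ b, T b → ¬ S b := by
    rintro b (⟨i, h, rfl⟩ | rfl) ⟨j, hj⟩ <;> rw [← F.P_single] at hj <;>
      have hc := congrArg Finset.card (F.P_inj hj)
    · rw [Finset.card_pair (fun e => by have := congrArg Fin.val e; simp at this),
        Finset.card_singleton] at hc
      omega
    · rw [htri, Finset.card_singleton] at hc
      omega
  have gS : ∀ b, γ b = a 0 → S b := fun b h => by
    by_contra hS
    simp only [γ, hS, if_false] at h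
    split_ifs at h <;> exact absurd (ha h) (by decide)
  have gT : ∀ b, γ b = a 1 → T b := fun b h => by
    by_contra hT
    simp only [γ, hT, if_false] at h
    split_ifs at h <;> exact absurd (ha h) (by decide)
  have hne : ∀ i, F.e i ≠ 1 := fun i => by
    rw [← F.P_single]; exact F.P_ne_one (Finset.singleton_nonempty i)
  have hS' : ∀ i, ∃ j, π (F.e i) = F.e j := fun i =>
    gS _ ((hπ _ (hne i)).trans (if_pos ⟨i, rfl⟩))
  choose p hp using hS'
  have hinj : Function.Injective p := fun i j h => by
    have : F.P {i} = F.P {j} := by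
      rw [F.P_single, F.P_single]; exact π.injective (by rw [hp, hp, h])
    exact Finset.singleton_injective (F.P_inj this)
  have hTv : ∀ b, T b → γ b = a 1 := fun b hb => by simp only [γ, hTS b hb, if_false, hb, if_true]
  have hcard : ∀ s : Finset (Fin n), (s.image p).card = s.card := fun s =>
    Finset.card_image_of_injective _ hinj
  have hpair : ∀ (i : Fin n) (h : i.1 + 1 < n), ({i, ⟨i.1 + 1, h⟩} : Finset (Fin n)).card = 2 :=
    fun i h => Finset.card_pair fun e => by have := congrArg Fin.val e; simp at this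
  have himg : tri.image p = tri := by
    have := gT _ ((hπ _ (F.P_ne_one (Finset.insert_nonempty _ _))).trans (hTv _ (Or.inr rfl)))
    rw [show F.P {(⟨0, by omega⟩ : Fin n), ⟨1, by omega⟩, ⟨2, by omega⟩} = F.P tri from rfl,
      F.map_P π hp] at this
    rcases this with ⟨i, h, he⟩ | he
    · have := congrArg Finset.card (F.P_inj he)
      rw [hcard, htri, hpair] at this
      omega
    · exact F.P_inj he
  have h2 : ∀ i : Fin n, i.1 = 0 → ∀ j : Fin n, π (F.e i) = F.e j → j.1 ≤ 2 := by
    intro i hi j hj
    rw [hp, ← F.P_single, ← F.P_single] at hj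
    have : j ∈ tri := by
      rw [← himg, ← Finset.singleton_injective (F.P_inj hj)]
      exact Finset.mem_image_of_mem p (Finset.mem_insert.2 (Or.inl (Fin.ext hi)))
    simp only [tri, Finset.mem_insert, Finset.mem_singleton, Fin.ext_iff] at this
    omega
  refine F.eq_one_of_path π (fun i => ⟨p i, hp i⟩) (fun i h => ?_)
    (fun i j hi hj hjn => by have := h2 i hi j hj; omega)
  · rcases gT _ ((hπ _ (F.P_ne_one (Finset.insert_nonempty _ _))).trans (hTv _ (Or.inl ⟨i, h, rfl⟩))) with
      hh | hh
    · exact hh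
    · rw [F.map_P π hp] at hh
      have := congrArg Finset.card (F.P_inj hh)
      rw [hcard, hpair, htri] at this
      omega

include F in
theorem exists_colour_two (hn : n ≤ 2) (K : Type u) [Field K] (h : (-1 : K) ≠ 1) :
    ∃ γ : B → K, ∀ π : MulAut B, (∀ b, b ≠ 1 → γ (π b) = γ b) → π = 1 := by
  classical
  let γ : B → K := fun b => if ∃ i : Fin n, i.1 = 0 ∧ b = F.e i then 1
    else if ∃ i : Fin n, i.1 ≠ 0 ∧ b = F.e i then -1 else 0
  refine ⟨γ, fun π hπ => F.gen π fun i => ?_⟩
  have hei : F.e i ≠ 1 := by rw [← F.P_single]; exact F.P_ne_one (Finset.singleton_nonempty i)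
  have h1 := hπ _ hei
  have hdis : ∀ k l : Fin n, k.1 = 0 → l.1 ≠ 0 → F.e k ≠ F.e l := fun k l hk hl he => by
    rw [← F.P_single, ← F.P_single] at he
    exact hl (Finset.singleton_injective (F.P_inj he) ▸ hk)
  by_cases hi : i.1 = 0
  · rw [show γ (F.e i) = 1 from if_pos ⟨i, hi, rfl⟩] at h1
    simp only [γ] at h1
    split_ifs at h1 with c1 c2
    · obtain ⟨k, hk, hk'⟩ := c1
      rw [hk', show k = i from Fin.ext (by omega)]
    · exact absurd h1 h
    · exact absurd h1 zero_ne_one
  · have hc : ¬ ∃ k : Fin n, k.1 = 0 ∧ F.e i = F.e k := fun ⟨k, hk, he⟩ => hdis k i hk hi he.symm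
    rw [show γ (F.e i) = -1 from (if_neg hc).trans (if_pos ⟨i, hi, rfl⟩)] at h1
    simp only [γ] at h1
    split_ifs at h1 with c1 c2
    · exact absurd h1.symm h
    · obtain ⟨k, hk, hk'⟩ := c2
      have := k.2; have := i.2
      rw [hk', show k = i from Fin.ext (by omega)]
    · exact absurd h1 (neg_ne_zero.2 one_ne_zero).symm

/-- The case of three generators: a colouring adapted to the given solvable group. -/
theorem exists_colour_cube (F : Frame B 3) (hsq : ∀ b : B, b * b = 1) (K : Type u) [Field K]
    (h : (-1 : K) ≠ 1) (P : Subgroup (MulAut B)) [Group.IsSolvable P] :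
    ∃ γ : B → K, ∀ π ∈ P, (∀ b, b ≠ 1 → γ (π b) = γ b) → π = 1 := by
  classical
  by_contra hno
  push Not at hno
  have key : ∀ i j k : Fin 3, i ≠ j → i ≠ k → j ≠ k → ∃ π ∈ P, π ≠ 1 ∧ π (F.e j) = F.e i * F.e j ∧
      π (F.e i) = F.e i ∧ π (F.e k) = F.e k := by
    intro i j k hij hik hjk
    let γ : B → K := fun b => if b = F.e k then -1 else if b = F.e j ∨ b = F.e i * F.e j then 1 else 0
    obtain ⟨π, hP, hπ, hπ1⟩ := hno γ
    have hne : ∀ l, F.e l ≠ 1 := fun l => by
      rw [← F.P_single]; exact F.P_ne_one (Finset.singleton_nonempty l)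
    have hk : π (F.e k) = F.e k := by
      have h1 := hπ _ (hne k)
      rw [show γ (F.e k) = -1 from if_pos rfl] at h1
      simp only [γ] at h1
      split_ifs at h1 with c1 c2
      · exact c1
      · exact absurd h1.symm h
      · exact absurd h1 (neg_ne_zero.2 one_ne_zero).symm
    have hjk' : F.e j ≠ F.e k := fun he => by
      rw [← F.P_single, ← F.P_single] at he
      exact hjk (Finset.singleton_injective (F.P_inj he))
    have hijk : F.e i * F.e j ≠ F.e k := fun he => by
      rw [← F.P_pair hij, ← F.P_single] at he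
      have := congrArg Finset.card (F.P_inj he)
      rw [Finset.card_pair hij, Finset.card_singleton] at this
      omega
    have hij1 : F.e i * F.e j ≠ 1 := by
      rw [← F.P_pair hij]; exact F.P_ne_one (Finset.insert_nonempty _ _)
    have hjv : ∀ b, (b = F.e j ∨ b = F.e i * F.e j) → γ b = 1 := by
      rintro b (rfl | rfl) <;> simp [γ, hjk', hijk]
    have himg : ∀ b, b ≠ 1 → (b = F.e j ∨ b = F.e i * F.e j) → π b = F.e j ∨ π b = F.e i * F.e j := by
      intro b hb hb'
      have h1 := hπ b hb
      rw [hjv b hb'] at h1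
      simp only [γ] at h1
      split_ifs at h1 with c1 c2
      · exact absurd h1 h
      · exact c2
      · exact absurd h1 zero_ne_one
    have hinvi : (F.e i)⁻¹ = F.e i := inv_eq_of_mul_eq_one_right (hsq _)
    rcases himg _ (hne j) (Or.inl rfl) with c | c <;>
      rcases himg _ hij1 (Or.inr rfl) with d | d
    · exact absurd (π.injective (c.trans d.symm)) fun he => hne i (mul_eq_right.1 he.symm)
    · rw [map_mul, c, mul_left_inj] at d
      refine absurd (F.gen π fun l => ?_) hπ1
      have : l = i ∨ l = j ∨ l = k := by omega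
      rcases this with rfl | rfl | rfl <;> assumption
    · rw [map_mul, c] at d
      refine ⟨π, hP, hπ1, c, ?_, hk⟩
      rw [← mul_assoc, mul_eq_right, mul_eq_one_iff_eq_inv, hinvi] at d
      exact d
    · exact absurd (π.injective (c.trans d.symm)) fun he => hne i (mul_eq_right.1 he.symm)
  choose t htP ht1 htj hti htk using key
  have hcomm : ∀ i j k (hij : i ≠ j) (hik : i ≠ k) (hjk : j ≠ k),
      ⁅t i k j hik hij hjk.symm, t k j i hjk.symm hik.symm hij.symm⁆ = t i j k hij hik hjk := by
    intro i j k hij hik hjk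
    set x := t i k j hik hij hjk.symm
    set y := t k j i hjk.symm hik.symm hij.symm
    have xk : x (F.e k) = F.e i * F.e k := htj i k j hik hij hjk.symm
    have xi : x (F.e i) = F.e i := hti i k j hik hij hjk.symm
    have xj : x (F.e j) = F.e j := htk i k j hik hij hjk.symm
    have yj : y (F.e j) = F.e k * F.e j := htj k j i hjk.symm hik.symm hij.symm
    have yk : y (F.e k) = F.e k := hti k j i hjk.symm hik.symm hij.symm
    have yi : y (F.e i) = F.e i := htk k j i hjk.symm hik.symm hij.symm
    have hgen3 : ∀ a b : MulAut B, a (F.e i) = b (F.e i) → a (F.e j) = b (F.e j) →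
        a (F.e k) = b (F.e k) → a = b := by
      intro a b h1 h2 h3
      have : b⁻¹ * a = 1 := F.gen _ fun l => by
        have : l = i ∨ l = j ∨ l = k := by omega
        rcases this with rfl | rfl | rfl <;>
          simp only [MulAut.mul_apply, MulAut.inv_def, h1, h2, h3, MulEquiv.symm_apply_apply]
      exact (inv_mul_eq_one.1 this).symm
    have sq : ∀ a b : B, a * (a * b) = b := fun a b => by rw [← mul_assoc, hsq, one_mul]
    have hxx : x⁻¹ = x := inv_eq_of_mul_eq_one_right (hgen3 _ _
      (by simp [MulAut.mul_apply, xi]) (by simp [MulAut.mul_apply, xj])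
      (by simp [MulAut.mul_apply, xk, xi, sq]))
    have hyy : y⁻¹ = y := inv_eq_of_mul_eq_one_right (hgen3 _ _
      (by simp [MulAut.mul_apply, yi]) (by simp [MulAut.mul_apply, yj, yk, sq])
      (by simp [MulAut.mul_apply, yk]))
    rw [commutatorElement_def, hxx, hyy]
    refine hgen3 _ _ ?_ ?_ ?_
    · simp [MulAut.mul_apply, xi, yi, hti i j k hij hik hjk]
    · simp only [MulAut.mul_apply, xi, xj, xk, yi, yj, yk, map_mul, htj i j k hij hik hjk]
      rw [mul_assoc, sq]
    · simp only [MulAut.mul_apply, xi, xj, xk, yi, yj, yk, map_mul, htk i j k hij hik hjk, sq]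
  have hall : ∀ m i j k (hij : i ≠ j) (hik : i ≠ k) (hjk : j ≠ k),
      (⟨t i j k hij hik hjk, htP i j k hij hik hjk⟩ : P) ∈ derivedSeries P m := by
    intro m
    induction m with
    | zero => exact fun _ _ _ _ _ _ => Subgroup.mem_top _
    | succ m ih =>
      intro i j k hij hik hjk
      rw [derivedSeries_succ]
      have := Subgroup.commutator_mem_commutator (ih i k j hik hij hjk.symm)
        (ih k j i hjk.symm hik.symm hij.symm)
      convert this using 1
      exact Subtype.ext (hcomm i j k hij hik hjk).symm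
  obtain ⟨m, hm⟩ := Group.IsSolvable.solvable (G := P)
  have := hall m 0 1 2 (by decide) (by decide) (by decide)
  rw [hm, Subgroup.mem_bot] at this
  exact ht1 0 1 2 (by decide) (by decide) (by decide) (congrArg Subtype.val this)

/-- A finite abelian group of exponent dividing the number of units has a colouring by field elements
which is preserved by no nontrivial automorphism from a solvable group. -/
theorem exists_distinguishing (B : Type u) [CommGroup B] [Finite B] (K : Type u) [Field K] [Finite K]
    (hexp : ∀ b : B, b ^ Nat.card Kˣ = 1) (P : Subgroup (MulAut B)) [Group.IsSolvable P] :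
    ∃ γ : B → K, ∀ π ∈ P, (∀ b, b ≠ 1 → γ (π b) = γ b) → π = 1 := by
  classical
  haveI := Fintype.ofFinite K
  obtain ⟨n, ⟨F⟩⟩ := exists_frame B
  by_cases h4 : 4 ≤ Fintype.card K
  · obtain ⟨γ, hγ⟩ := exists_colour_four F K (fun i : Fin 4 => (Fintype.equivFin K).symm ⟨i.1, by omega⟩)
      fun i j h => Fin.ext (by simpa using (Fintype.equivFin K).symm.injective h)
    exact ⟨γ, fun π _ => hγ π⟩
  have hK : Nat.card Kˣ = Fintype.card K - 1 := by rw [Nat.card_units, Nat.card_eq_fintype_card]
  have hK2 : 2 ≤ Fintype.card K := Fintype.one_lt_card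
  by_cases h2 : Fintype.card K = 2
  · refine ⟨fun _ => 0, fun π _ _ => MulEquiv.ext fun b => ?_⟩
    have hb : ∀ b : B, b = 1 := fun b => by
      have := hexp b
      rwa [hK, h2, show 2 - 1 = 1 from rfl, pow_one] at this
    rw [hb (π b), MulAut.one_apply, hb b]
  have hsq : ∀ b : B, b * b = 1 := fun b => by
    have := hexp b
    rwa [hK, show Fintype.card K - 1 = 2 by omega, pow_two] at this
  have hm1 : (-1 : K) ≠ 1 := fun h => by
    haveI : Fact (Nat.Prime 3) := ⟨Nat.prime_three⟩
    haveI := charP_of_card_eq_prime (R := K) (p := 3) (by omega)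
    have h20 : ((2 : ℕ) : K) = 0 := by
      push_cast
      calc (2 : K) = 1 + 1 := one_add_one_eq_two.symm
        _ = 0 := by nth_rw 1 [← h]; exact neg_add_cancel 1
    exact absurd ((CharP.cast_eq_zero_iff K 3 2).1 h20) (by decide)
  by_cases hn4 : 4 ≤ n
  · obtain ⟨γ, hγ⟩ := exists_colour_three F hn4 K (fun i : Fin 3 => (Fintype.equivFin K).symm ⟨i.1, by omega⟩)
      fun i j h => Fin.ext (by simpa using (Fintype.equivFin K).symm.injective h)
    exact ⟨γ, fun π _ => hγ π⟩
  by_cases hn2 : n ≤ 2
  · obtain ⟨γ, hγ⟩ := exists_colour_two F hn2 K hm1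
    exact ⟨γ, fun π _ => hγ π⟩
  obtain rfl : n = 3 := by omega
  exact exists_colour_cube F hsq K hm1 P

end Cfsg.Agent.H94.Base3
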